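import Groth.Prelude.Def_CGrpSh2
import Groth.Agent.H2.Rigid.Conn
import Groth.Agent.H87.HomDS
import Groth.Agent.Lib.Tori.Basic

/-!
# No homomorphisms from abelian schemes to tori
-/

set_option autoImplicit false
universe u
open CategoryTheory CategoryTheory.Limits MonoidalCategory CartesianMonoidalCategory MonObj AlgebraicGeometry
set_option linter.style.haveILetI false

namespace Groth.Agent.H4.HomShSA

open H2.Rigid in
/-- Homomorphisms from a proper smooth group with trivial functions on the fibres to an affine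
group are trivial. -/
theorem hom_eq_one_of_isAffineHom {S : Scheme.{u}} {A T : Over S} [GrpObj A] [GrpObj T]
    [IsProper A.hom] [Smooth A.hom] (hA : H0 A.hom) (hT : IsAffineHom T.hom) (f : A ⟶ T)
    [IsMonHom f] : f = 1 := by
  haveI := hT
  haveI : Surjective A.hom := ⟨fun s => ⟨η[A].left s, congr($(Over.w η[A]) s)⟩⟩
  have hp := push_of_smooth A.hom hA η[A].left (Over.w η[A])
  have huniv : constSet A.hom f.left = Set.univ := by
    refine Set.eq_univ_of_forall fun s => ?_
    obtain ⟨_, ⟨U, hU, rfl⟩, hs, -⟩ := S.isBasis_affineOpens.exists_subset_of_mem_open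
      (Set.mem_univ s) isOpen_univ
    refine intoSet_subset_constSet hA (hU.preimage T.hom) (mem_intoSet.2 fun x hx => ?_)
    change T.hom (f.left x) ∈ U
    rw [← Scheme.Hom.comp_apply, Over.w f, hx]
    exact hs
  obtain ⟨k, hk⟩ := hp.exists_factor f.left A.hom.isClosedMap huniv
  have h1 : η[A] ≫ f = η[T] := IsMonHom.one_hom f
  have hk' : k = η[T].left := by
    rw [← h1, Over.comp_left, ← hk, ← Category.assoc, Over.w η[A]]
    exact (Category.id_comp k).symm
  ext1
  rw [← hk, hk', Hom.one_def, Over.comp_left]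
  rfl

set_option maxHeartbeats 800000 in
/-- The internal Hom from an abelian scheme to a torus is zero. -/
theorem homSh_abScheme_torus_isZero {S : Scheme.{u}} (A T : Over S)
    [GrpObj T] [IsCommMonObj T] (hT : Red.IsTorus T)
    [GrpObj A] [IsCommMonObj A] [Smooth A.hom] [IsProper A.hom]
    (hA : ∀ s : S, ConnectedSpace ↥(A.hom.fiber s)) :
    IsZero (HomSh.homSh (QuotSh.J Scheme.fppfPrecoverage S) (CGrpSh.pts Scheme.fppfPrecoverage A) (CGrpSh.pts Scheme.fppfPrecoverage T)) := by
  refine (IsZero.iff_id_eq_zero _).2 (Sheaf.hom_ext (NatTrans.ext (funext fun U => AddCommGrpCat.ext fun ψ => ?_)))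
  obtain ⟨U⟩ := U
  change (CGrpSh.pts Scheme.fppfPrecoverage A).over U ⟶ (CGrpSh.pts Scheme.fppfPrecoverage T).over U at ψ
  change ψ = 0
  -- the components of `ψ` as maps on points
  let E : ∀ (V : Over U), (V.left ⟶ A) → (V.left ⟶ T) := fun V y =>
    (ψ.hom.app (Opposite.op V) (ULift.up (Additive.ofMul y))).down.toMul
  have hnat : ∀ (V V' : Over U) (g : V' ⟶ V) (y : V.left ⟶ A), g.left ≫ E V y = E V' (g.left ≫ y) :=
    fun V V' g y => (congrArg (fun z => Additive.toMul z.down)
      (ConcreteCategory.congr_hom (ψ.hom.naturality g.op) (ULift.up (Additive.ofMul y)))).symm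
  have hmul : ∀ (V : Over U) (y y' : V.left ⟶ A), E V (y * y') = E V y * E V y' := fun V y y' =>
    congrArg (fun z => Additive.toMul z.down)
      (map_add (ψ.hom.app (Opposite.op V)).hom (ULift.up (Additive.ofMul y)) (ULift.up (Additive.ofMul y')))
  let pi : ∀ X : Over U.left, Over U := fun X =>
    Over.mk (Over.homMk X.hom rfl : (Over.map U.hom).obj X ⟶ U)
  let F : Red.bc U.hom A ⟶ Red.bc U.hom T :=
    Lib.RedPts.BC.up U.hom (E (pi _) (Lib.RedPts.BC.down U.hom (𝟙 _)))
  have hF : ∀ (X : Over U.left) (x : X ⟶ Red.bc U.hom A),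
      Lib.RedPts.BC.down U.hom (x ≫ F) = E (pi X) (Lib.RedPts.BC.down U.hom x) := by
    intro X x
    rw [Lib.RedPts.BC.down_comp, Lib.RedPts.BC.down_up]
    refine (hnat (pi _) (pi X) (Over.homMk ((Over.map U.hom).map x)
      (Over.OverMorphism.ext (Over.w x))) _).trans ?_
    refine congrArg (E (pi X)) ?_
    exact (Lib.RedPts.BC.down_comp x (𝟙 (Red.bc U.hom A))).symm.trans (by rw [Category.comp_id])
  haveI : IsMonHom F := H87.HomDS.isMonHom_of_points F fun X a b => Lib.RedPts.BC.down_injective <| by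
    rw [Lib.RedPts.BC.down_mul, hF, hF, hF, Lib.RedPts.BC.down_mul, hmul]
  
  haveI : Smooth (Red.bc U.hom A).hom := inferInstanceAs (Smooth (pullback.snd A.hom U.hom))
  haveI : IsProper (Red.bc U.hom A).hom := inferInstanceAs (IsProper (pullback.snd A.hom U.hom))
  have hH : H2.Rigid.H0 (pullback.snd A.hom U.hom) :=
    H2.Rigid.H0.pullback_snd A.hom (H2.Rigid.conn_and_H0 A hA).2 U.hom
  have hF1 : F = 1 :=
    hom_eq_one_of_isAffineHom (A := Red.bc U.hom A) hH
      (Lib.Tori.Basic.isAffineHom_of_isTorus (Lib.Tori.Basic.isTorus_bc hT U.hom)) F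
  refine Sheaf.hom_ext (NatTrans.ext (funext fun V => AddCommGrpCat.ext fun y => ?_))
  obtain ⟨V⟩ := V
  refine ULift.ext _ _ (congrArg Additive.ofMul (?_ : E V y.down.toMul = 1))
  let X : Over U.left := Over.mk V.hom.left
  let g : V ⟶ pi X := Over.homMk (Over.homMk (𝟙 V.left.left)
    (by change 𝟙 _ ≫ V.hom.left ≫ U.hom = _; rw [Category.id_comp, Over.w]))
    (Over.OverMorphism.ext (Category.id_comp _))
  let y' : (Over.map U.hom).obj X ⟶ A := Over.homMk y.down.toMul.left
    ((Over.w y.down.toMul).trans (Over.w V.hom).symm)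
  have hy : g.left ≫ y' = y.down.toMul := Over.OverMorphism.ext (Category.id_comp _)
  rw [← hy, ← hnat (pi X) V g y', ← Lib.RedPts.BC.down_up y', ← hF X,
    hF1, MonObj.comp_one, Lib.RedPts.BC.down_one, MonObj.comp_one]

end Groth.Agent.H4.HomShSA
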