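import Groth.Prelude.Def_CGrpSh2
import Mathlib.CategoryTheory.Sites.EpiMono
import Mathlib.CategoryTheory.Abelian.CommSq
import Mathlib.Algebra.Homology.ShortComplex.ExactFunctor

/-!
# Restriction of short exact sequences of abelian sheaves to the site over an object
-/

set_option autoImplicit false
universe u

open CategoryTheory CategoryTheory.Limits Opposite

set_option linter.style.haveILetI false

namespace Groth.Agent.H4.HomShSA

variable {C : Type (u + 1)} [Category.{u} C] (J : GrothendieckTopology C)

theorem map_ptwise {F G : Sheaf J AddCommGrpCat.{u + 1}} (φ : F ⟶ G) (X : C) (Y : (Over X)ᵒᵖ)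
    (x : F.obj.obj (op Y.unop.left)) :
    ((J.overPullback _ X).map φ).hom.app Y x = φ.hom.app (op Y.unop.left) x := rfl

theorem shortExact_over {S : ShortComplex (Sheaf J AddCommGrpCat.{u + 1})} (hS : S.ShortExact)
    (X : C) : (S.map (J.overPullback AddCommGrpCat.{u + 1} X)).ShortExact := by
  haveI := hS.mono_f
  haveI := hS.epi_g
  have h2 : Sheaf.IsLocallySurjective S.g := by
    rw [Sheaf.isLocallySurjective_iff_epi']; infer_instance
  have hlim : Nonempty (IsLimit (KernelFork.ofι _ (S.map (J.overPullback _ X)).zero)) :=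
    ⟨isLimitForkMapOfIsLimit' (J.overPullback AddCommGrpCat.{u + 1} X) S.zero hS.fIsKernel⟩
  have hl : Sheaf.IsLocallySurjective ((J.overPullback AddCommGrpCat.{u + 1} X).map S.g) := by
    refine ⟨fun {Y} s => ?_⟩
    rw [GrothendieckTopology.mem_over_iff]
    refine J.superset_covering ?_ (Presheaf.imageSieve_mem J S.g.hom (U := op Y.left) s)
    rintro Z f ⟨t, ht⟩
    rw [Sieve.overEquiv_iff]
    exact ⟨t, ht⟩
  haveI : Epi ((S.map (J.overPullback _ X)).g) := (Sheaf.isLocallySurjective_iff_epi' (A := AddCommGrpCat.{u + 1}) ((J.overPullback AddCommGrpCat.{u + 1} X).map S.g)).mp hl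
  haveI : Mono ((S.map (J.overPullback _ X)).f) := Fork.IsLimit.mono hlim.some
  exact ⟨ShortComplex.exact_of_f_is_kernel _ hlim.some⟩

end Groth.Agent.H4.HomShSA
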